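import Groth.Agent.Lib.Flatness.Criterion
import Mathlib.RingTheory.IsTensorProduct
import Mathlib.RingTheory.Localization.BaseChange
import Mathlib.RingTheory.Localization.AtPrime.Basic
import Mathlib.RingTheory.Localization.Submodule
import Mathlib.RingTheory.Localization.Finiteness
import Mathlib.RingTheory.Flat.Stability
import Mathlib.RingTheory.Flat.Localization

/-!
# Flatness at a prime from flatness over Artinian quotients of the local ring of the base
-/

set_option autoImplicit false
set_option linter.style.haveILetI false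

universe u

open TensorProduct Function IsLocalRing

namespace GrothLib.ArtRed3

variable {R A B B' M : Type u} [CommRing R] [CommRing A] [CommRing B] [CommRing B']
  [Algebra R A] [Algebra R B] [Algebra A B'] [Algebra B B'] [Algebra R B']
  [IsScalarTower R A B'] [IsScalarTower R B B'] [Algebra.IsPushout R A B B']
  [AddCommGroup M] [Module B M] [Module R M] [IsScalarTower R B M]

/-- In a base change along a localised quotient every element is a fraction. -/
theorem exists_fraction
    (hA : ∀ a : A, ∃ r s : R, IsUnit (algebraMap R A s) ∧ algebraMap R A s * a = algebraMap R A r)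
    (e : B') : ∃ (s : R) (b : B), IsUnit (algebraMap R A s) ∧ algebraMap R B' s * e = algebraMap B B' b := by
  obtain ⟨z, rfl⟩ := (Algebra.IsPushout.equiv R A B B').surjective e
  induction z using TensorProduct.induction_on with
  | zero => exact ⟨1, 0, by simp, by simp⟩
  | add x y hx hy =>
    obtain ⟨s, b, hs, hb⟩ := hx
    obtain ⟨t, c, ht, hc⟩ := hy
    refine ⟨s * t, algebraMap R B t * b + algebraMap R B s * c, by rw [map_mul]; exact hs.mul ht, ?_⟩
    rw [map_add, map_add, map_mul, map_mul, map_mul, ← IsScalarTower.algebraMap_apply,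
      ← IsScalarTower.algebraMap_apply, ← hb, ← hc]
    ring
  | tmul a b =>
    obtain ⟨r, s, hs, hr⟩ := hA a
    refine ⟨s, algebraMap R B r * b, hs, ?_⟩
    rw [Algebra.IsPushout.equiv_tmul, ← mul_assoc, IsScalarTower.algebraMap_apply R A B', ← map_mul,
      hr, map_mul, ← IsScalarTower.algebraMap_apply, ← IsScalarTower.algebraMap_apply]

/-- Flatness at the point over `p` of a base change along a localised quotient gives flatness of the
base change of the localised module. -/
theorem flat_tensor_of_flat_localized [SMulCommClass B A B']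
    (hA : ∀ a : A, ∃ r s : R, IsUnit (algebraMap R A s) ∧ algebraMap R A s * a = algebraMap R A r)
    (p : Ideal B) [p.IsPrime] (Q : Ideal B') [Q.IsPrime] (hQ : Q.comap (algebraMap B B') = p)
    (h : Module.Flat A (LocalizedModule Q.primeCompl (B' ⊗[B] M))) :
    Module.Flat A (A ⊗[R] LocalizedModule p.primeCompl M) := by
  let N := LocalizedModule p.primeCompl M
  let X := B' ⊗[B] N
  let L := LocalizedModule Q.primeCompl (B' ⊗[B] M)
  let g := LocalizedModule.mkLinearMap p.primeCompl M
  let mkQ := LocalizedModule.mkLinearMap Q.primeCompl (B' ⊗[B] M)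
  have hb : ∀ b ∉ p, IsUnit (algebraMap B' (Module.End B' X) (algebraMap B B' b)) := by
    intro b hb
    obtain ⟨U, hU⟩ := IsLocalizedModule.map_units g (⟨b, hb⟩ : p.primeCompl)
    have he : algebraMap B' (Module.End B' X) (algebraMap B B' b) =
        LinearMap.baseChange B' (↑U : Module.End B N) := by
      refine TensorProduct.AlgebraTensorModule.ext fun c n => ?_
      rw [hU]
      show algebraMap B B' b • (c ⊗ₜ[B] n) = c ⊗ₜ[B] (b • n)
      rw [algebraMap_smul, TensorProduct.tmul_smul]
    rw [he]
    refine ⟨⟨LinearMap.baseChange B' (↑U : Module.End B N), LinearMap.baseChange B' (↑U⁻¹ : Module.End B N),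
      ?_, ?_⟩, rfl⟩
    · rw [← LinearMap.baseChange_mul, Units.mul_inv]; exact LinearMap.baseChange_id
    · rw [← LinearMap.baseChange_mul, Units.inv_mul]; exact LinearMap.baseChange_id
  have hu : ∀ c : Q.primeCompl, IsUnit (algebraMap B' (Module.End B' X) c.1) := by
    intro c
    obtain ⟨s, b, hs, he⟩ := exists_fraction (B := B) hA c.1
    have hs' : IsUnit (algebraMap R B' s) := by
      rw [IsScalarTower.algebraMap_apply R A B']; exact hs.map _
    have hbp : b ∉ p := fun hbp => by
      rw [← hQ, Ideal.mem_comap, ← he, Ideal.unit_mul_mem_iff_mem Q hs'] at hbp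
      exact c.2 hbp
    have h1 := hb b hbp
    rw [← he, map_mul] at h1
    exact (((Commute.all _ c.1).map (algebraMap B' (Module.End B' X))).isUnit_mul_iff.mp h1).2
  let Ψ : L →ₗ[B'] X := LocalizedModule.lift Q.primeCompl (g.baseChange B') hu
  let r : M →ₗ[B] L := (mkQ.restrictScalars B).comp (TensorProduct.mk B B' M 1)
  have hr : ∀ c : p.primeCompl, IsUnit (algebraMap B (Module.End B L) c.1) := fun c => by
    have hc : algebraMap B B' c.1 ∈ Q.primeCompl := fun h => c.2 (hQ ▸ h)
    have := (Module.End.isUnit_iff _).mp (IsLocalizedModule.map_units (f := mkQ) ⟨_, hc⟩)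
    refine (Module.End.isUnit_iff _).mpr ?_
    convert this using 1
    funext x
    exact (algebraMap_smul B' c.1 x).symm
  let Φ : X →ₗ[B'] L := (LocalizedModule.lift p.primeCompl r hr).liftBaseChange B'
  have hX : ∀ c : p.primeCompl, IsUnit (algebraMap B (Module.End B X) c.1) := fun c => by
    have := (Module.End.isUnit_iff _).mp (hb c.1 c.2)
    refine (Module.End.isUnit_iff _).mpr ?_
    convert this using 1
    funext x
    exact (algebraMap_smul B' c.1 x).symm
  have hΨΦ : Ψ.comp Φ = LinearMap.id := by
    refine TensorProduct.AlgebraTensorModule.ext fun c n => ?_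
    have key : ((Ψ.comp Φ).restrictScalars B).comp (TensorProduct.mk B B' N 1) = TensorProduct.mk B B' N 1 := by
      refine IsLocalizedModule.ext p.primeCompl g hX (LinearMap.ext fun m => ?_)
      show Ψ (Φ ((1 : B') ⊗ₜ[B] g m)) = (1 : B') ⊗ₜ[B] g m
      rw [LinearMap.liftBaseChange_tmul, one_smul]
      change Ψ (LocalizedModule.lift p.primeCompl r hr (LocalizedModule.mk m 1)) = _
      rw [LocalizedModule.lift_mk_one]
      change LocalizedModule.lift Q.primeCompl (g.baseChange B') hu (LocalizedModule.mk ((1 : B') ⊗ₜ[B] m) 1) = _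
      rw [LocalizedModule.lift_mk_one, LinearMap.baseChange_tmul]
    have h2 : c ⊗ₜ[B] n = c • ((1 : B') ⊗ₜ[B] n) := by
      rw [TensorProduct.smul_tmul', smul_eq_mul, mul_one]
    rw [h2, map_smul, map_smul]
    exact congrArg (c • ·) (LinearMap.congr_fun key n)
  haveI : IsScalarTower A B' X := TensorProduct.isScalarTower_left
  haveI : Module.Flat A X := Module.Flat.of_retract (Φ.restrictScalars A) (Ψ.restrictScalars A)
    (LinearMap.ext fun x => DFunLike.congr_fun hΨΦ x)
  exact Module.Flat.of_linearEquiv (Algebra.IsPushout.cancelBaseChange R A B B' N).symm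

/-- **Flatness over a local ring of the base from flatness over enough of its quotients.** -/
theorem flat_of_forall_quot [IsNoetherianRing R] [IsNoetherianRing B] [Module.Finite B M]
    (I : Ideal R) [I.IsPrime] (p : Ideal B) [p.IsPrime] (hp : p.comap (algebraMap R B) = I)
    (O : Type u) [CommRing O] [IsLocalRing O] [Algebra R O] [IsLocalization.AtPrime O I]
    (h : ∀ n : ℕ, ∃ (K : Ideal O) (A : Type u) (_ : CommRing A) (_ : Algebra R A) (e : (O ⧸ K) ≃+* A),
      K ≤ maximalIdeal O ^ (n + 1) ∧
      (∀ r, e (Ideal.Quotient.mk K (algebraMap R O r)) = algebraMap R A r) ∧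
      Module.Flat A (A ⊗[R] LocalizedModule p.primeCompl M)) :
    Module.Flat R (LocalizedModule p.primeCompl M) := by
  let N := LocalizedModule p.primeCompl M
  let L := Localization.AtPrime p
  haveI : IsNoetherianRing O := IsLocalization.isNoetherianRing I.primeCompl O inferInstance
  have hunit : ∀ s : I.primeCompl, IsUnit (algebraMap R L s.1) := fun s => by
    rw [IsScalarTower.algebraMap_apply R B L]
    exact IsLocalization.map_units L (⟨_, fun h => s.2 (hp.le (Ideal.mem_comap.mpr h))⟩ : p.primeCompl)
  letI : Algebra O L := (IsLocalization.lift (M := I.primeCompl) (S := O) hunit).toAlgebra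
  haveI : IsScalarTower R O L := IsScalarTower.of_algebraMap_eq fun r => (IsLocalization.lift_eq _ r).symm
  letI : Module O N := Module.compHom N (algebraMap O L)
  haveI : IsScalarTower O L N := IsScalarTower.of_algebraMap_smul fun _ _ => rfl
  haveI : IsScalarTower R L N := IsScalarTower.of_algebraMap_smul fun r z => by
    rw [IsScalarTower.algebraMap_apply R B L, algebraMap_smul, algebraMap_smul]
  haveI : IsScalarTower R O N := IsScalarTower.of_algebraMap_smul fun r z => by
    show algebraMap O L (algebraMap R O r) • z = r • z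
    rw [← IsScalarTower.algebraMap_apply, algebraMap_smul]
  haveI : IsNoetherianRing L := inferInstance
  haveI : Module.Finite L N :=
    Module.Finite.of_isLocalizedModule p.primeCompl (LocalizedModule.mkLinearMap p.primeCompl M)
  suffices Module.Flat O N by
    haveI : Module.Flat R O := IsLocalization.flat O I.primeCompl
    exact Module.Flat.trans R O N
  have hjac : (maximalIdeal O).map (algebraMap O L) ≤ Ideal.jacobson ⊥ := by
    rw [← IsLocalization.AtPrime.map_eq_maximalIdeal I O, Ideal.map_map, ← IsScalarTower.algebraMap_eq,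
      IsLocalRing.jacobson_eq_maximalIdeal ⊥ bot_ne_top, IsScalarTower.algebraMap_eq R B L,
      ← Ideal.map_map, ← IsLocalization.AtPrime.map_eq_maximalIdeal p L]
    exact Ideal.map_mono (Ideal.map_le_iff_le_comap.mpr hp.ge)
  refine GrothLib.Flatness.flat_of_forall_pow (S := L) (maximalIdeal O) hjac
    fun n P P' _ _ _ _ φ hP hP' hφ => ?_
  obtain ⟨K, A, _, _, e, hK, he, hflat⟩ := h n
  have hle : K ≤ maximalIdeal O ^ n := hK.trans (Ideal.pow_le_pow_right (Nat.le_succ n))
  letI : Algebra O A := ((e : O ⧸ K →+* A).comp (Ideal.Quotient.mk K)).toAlgebra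
  haveI : IsScalarTower R O A := IsScalarTower.of_algebraMap_eq fun r => (he r).symm
  haveI := IsLocalization.tensorProduct_compatibleSMul I.primeCompl O A N
  haveI : Module.Flat A (A ⊗[O] N) :=
    Module.Flat.of_linearEquiv (TensorProduct.equivOfCompatibleSMul R O A A N)
  letI : Algebra A (O ⧸ K) := (e.symm : A →+* O ⧸ K).toAlgebra
  haveI : IsScalarTower O A (O ⧸ K) := IsScalarTower.of_algebraMap_eq fun o => (e.symm_apply_apply _).symm
  haveI : Module.Flat (O ⧸ K) ((O ⧸ K) ⊗[O] N) := Module.Flat.of_linearEquiv
    (AlgebraTensorModule.cancelBaseChange O A (O ⧸ K) (O ⧸ K) N).symm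
  exact GrothLib.Flatness.lTensor_injective_of_flat_quotient K inferInstance
    (fun y a => @hP y ⟨a.1, hle a.2⟩) (fun y a => @hP' y ⟨a.1, hle a.2⟩) φ hφ

end GrothLib.ArtRed3
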