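import Groth.Agent.Lib.ArtRed3.Scheme

/-!
# Flatness at a point from flatness after a family of local base changes separating adically
-/

set_option autoImplicit false
set_option backward.isDefEq.respectTransparency false
set_option linter.style.haveILetI false

universe u

open CategoryTheory CategoryTheory.Limits AlgebraicGeometry IsLocalRing

namespace GrothLib.ArtRed3

/-- A global function of the spectrum of a local ring with zero germ at the closed point is zero. -/
theorem eq_zero_of_germ_closedPoint {R : CommRingCat.{u}} [IsLocalRing R] (z : Γ(Spec R, ⊤))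
    (hz : (Spec R).presheaf.germ ⊤ (closedPoint R) trivial z = 0) : z = 0 := by
  obtain ⟨W, hW, iU, iV, e⟩ := TopCat.Presheaf.germ_eq (Spec R).presheaf (closedPoint R)
    (U := ⊤) (V := ⊤) trivial trivial z 0 (hz.trans (map_zero _).symm)
  obtain rfl : W = ⊤ := (closedPoint_mem_iff W).mp hW
  have hi : iU = 𝟙 _ := Subsingleton.elim _ _
  rw [hi, op_id, CategoryTheory.Functor.map_id, map_zero] at e
  exact e

/-- The pullback of a coherent module is flat at the points over `x` of the base change to an Artinian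
quotient of the local ring, when it is flat after base change to a separating family. -/
theorem flat_quot_of_family {X Y : Scheme.{u}} [IsLocallyNoetherian Y] (f : X ⟶ Y)
    [LocallyOfFiniteType f] (F : X.Modules) (hF : Coh.IsCoh F) (x : X)
    {ι : Type u} (A : ι → Type u) [∀ i, CommRing (A i)] [∀ i, IsLocalRing (A i)]
    (φ : ∀ i, (Y.presheaf.stalk (f x) : Type u) →+* A i) [∀ i, IsLocalHom (φ i)]
    (s : Finset (ι × ℕ)) (K : Ideal (Y.presheaf.stalk (f x)))
    (hKdef : K = ⨅ p ∈ s, Ideal.comap (φ p.1) (maximalIdeal (A p.1) ^ p.2))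
    (hKm : K ≤ maximalIdeal (Y.presheaf.stalk (f x)))
    (hflat : ∀ (i : ι) (x' : ↥(pullback f (Spec.map (CommRingCat.ofHom (φ i)) ≫ Y.fromSpecStalk (f x)))),
      pullback.fst f (Spec.map (CommRingCat.ofHom (φ i)) ≫ Y.fromSpecStalk (f x)) x' = x →
      pullback.snd f (Spec.map (CommRingCat.ofHom (φ i)) ≫ Y.fromSpecStalk (f x)) x' = closedPoint (A i) →
      FlatMod.IsFlatOverAt (pullback.snd f (Spec.map (CommRingCat.ofHom (φ i)) ≫ Y.fromSpecStalk (f x)))
        ((Scheme.Modules.pullback (pullback.fst f (Spec.map (CommRingCat.ofHom (φ i)) ≫ Y.fromSpecStalk (f x)))).obj F) x')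
    (x' : ↥(pullback f (quotMap (f x) K))) (hx' : pullback.fst f (quotMap (f x) K) x' = x) :
    FlatMod.IsFlatOverAt (pullback.snd f (quotMap (f x) K))
      ((Scheme.Modules.pullback (pullback.fst f (quotMap (f x) K))).obj F) x' := by
  classical
  haveI := hF.1
  let O := Y.presheaf.stalk (f x)
  let Q := O ⧸ K
  haveI : Nontrivial Q := Ideal.Quotient.nontrivial_iff.2
    (ne_top_of_le_ne_top (maximalIdeal.isMaximal O).ne_top hKm)
  haveI : IsLocalRing Q := IsLocalRing.of_surjective' (Ideal.Quotient.mk K) Ideal.Quotient.mk_surjective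
  haveI : IsLocalHom (Ideal.Quotient.mk K) := IsLocalHom.of_surjective _ Ideal.Quotient.mk_surjective
  let M := s.sup Prod.snd
  have hM : maximalIdeal O ^ M ≤ K := by
    rw [hKdef]
    refine le_iInf₂ fun p hp => ?_
    refine (Ideal.pow_le_pow_right (Finset.le_sup (f := Prod.snd) hp)).trans ?_
    refine (Ideal.pow_right_mono ?_ _).trans (Ideal.le_comap_pow _ _)
    exact (IsLocalRing.maximalIdeal_comap (φ p.1)).ge
  haveI : IsArtinianRing Q := by
    rw [isArtinianRing_iff_isNilpotent_maximalIdeal]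
    refine ⟨M, ?_⟩
    rw [Ideal.zero_eq_bot, ← map_maximalIdeal_of_surjective (Ideal.Quotient.mk K) Ideal.Quotient.mk_surjective,
      ← Ideal.map_pow, Ideal.map_eq_bot_iff_le_ker, Ideal.mk_ker]
    exact hM
  obtain ⟨R₀, h0, h1⟩ := GrothLib.FlatFam5.exists_ideal_geom (pullback.snd f (quotMap (f x) K))
    ((Scheme.Modules.pullback (pullback.fst f (quotMap (f x) K))).obj F)
    (GrothLib.ModDesc.isCoh_pullback _ F hF) x'
  refine h0 (eq_bot_iff.2 fun a ha => ?_)
  obtain ⟨o, rfl⟩ := Ideal.Quotient.mk_surjective a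
  rw [Ideal.mem_bot, Ideal.Quotient.eq_zero_iff_mem]
  suffices h : ∀ p ∈ s, o ∈ Ideal.comap (φ p.1) (maximalIdeal (A p.1) ^ p.2) by
    simpa [hKdef, Ideal.mem_iInf] using h
  intro p hp
  rcases Nat.eq_zero_or_pos p.2 with h2 | h2
  · rw [h2, pow_zero, Ideal.one_eq_top, Ideal.comap_top]
    trivial
  let I : Ideal (A p.1) := maximalIdeal (A p.1) ^ p.2
  haveI : Nontrivial (A p.1 ⧸ I) := Ideal.Quotient.nontrivial_iff.2
    (ne_top_of_le_ne_top (maximalIdeal.isMaximal _).ne_top (Ideal.pow_le_self h2.ne'))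
  haveI : IsLocalRing (A p.1 ⧸ I) := IsLocalRing.of_surjective' (Ideal.Quotient.mk I) Ideal.Quotient.mk_surjective
  haveI : IsLocalHom (Ideal.Quotient.mk I) := IsLocalHom.of_surjective _ Ideal.Quotient.mk_surjective
  have hKI : ∀ b ∈ K, (Ideal.Quotient.mk I).comp (φ p.1) b = 0 := fun b hb => by
    rw [RingHom.comp_apply, Ideal.Quotient.eq_zero_iff_mem]
    exact (iInf₂_le p hp : _ ≤ Ideal.comap (φ p.1) I) (hKdef ▸ hb)
  let u : Q →+* A p.1 ⧸ I := Ideal.Quotient.lift K ((Ideal.Quotient.mk I).comp (φ p.1)) hKI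
  let v := Spec.map (CommRingCat.ofHom u)
  let w := Spec.map (CommRingCat.ofHom (Ideal.Quotient.mk I))
  have hvw : v ≫ quotMap (f x) K =
      w ≫ Spec.map (CommRingCat.ofHom (φ p.1)) ≫ Y.fromSpecStalk (f x) := by
    show Spec.map _ ≫ Spec.map _ ≫ _ = Spec.map _ ≫ Spec.map _ ≫ _
    rw [← Category.assoc, ← Category.assoc, ← Spec.map_comp, ← Spec.map_comp]
    rfl
  have hwc : w (closedPoint (A p.1 ⧸ I)) = closedPoint (A p.1) :=
    IsLocalRing.comap_closedPoint (Ideal.Quotient.mk I)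
  have hz := h1 _ v (closedPoint (A p.1 ⧸ I)) (fun z hz1 hz2 =>
    flat_stage f F x (quotMap (f x) K) _ v w hvw (closedPoint (A p.1 ⧸ I))
      (fun y hy1 hy2 => hflat p.1 y hy1 (hy2.trans hwc)) x' hx' z hz1 hz2) _ ha
  have hn : v.appTop ((Scheme.ΓSpecIso (CommRingCat.of Q)).inv (Ideal.Quotient.mk K o)) =
      (Scheme.ΓSpecIso (CommRingCat.of (A p.1 ⧸ I))).inv (u (Ideal.Quotient.mk K o)) :=
    (ConcreteCategory.congr_hom (Scheme.ΓSpecIso_inv_naturality (CommRingCat.ofHom u)) _).symm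
  have hz0 := hn.symm.trans (eq_zero_of_germ_closedPoint (R := CommRingCat.of (A p.1 ⧸ I)) _ hz)
  have := congrArg (Scheme.ΓSpecIso (CommRingCat.of (A p.1 ⧸ I))).hom hz0
  rw [map_zero] at this
  exact Ideal.mem_comap.mpr (Ideal.Quotient.eq_zero_iff_mem.mp
    ((Iso.inv_hom_id_apply (Scheme.ΓSpecIso (CommRingCat.of (A p.1 ⧸ I))) _).symm.trans this))

end GrothLib.ArtRed3
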