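import Groth.Agent.Lib.ArtRed3.Family
import Mathlib.RingTheory.Ideal.GoingUp
import Mathlib.RingTheory.Filtration
import Mathlib.RingTheory.Ideal.MinimalPrime.Noetherian
import Mathlib.RingTheory.Ideal.IsPrimary
import Mathlib.RingTheory.Spectrum.Maximal.Basic
import Mathlib.RingTheory.Localization.Ideal
import Mathlib.RingTheory.Finiteness.Ideal

/-!
# Finite injective algebras separate a Noetherian local ring adically
-/

set_option autoImplicit false
set_option backward.isDefEq.respectTransparency false
set_option linter.style.haveILetI false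

universe u

open CategoryTheory CategoryTheory.Limits AlgebraicGeometry IsLocalRing

namespace GrothLib.ArtRed3

theorem comap_maximal_eq {O A' : Type u} [CommRing O] [IsLocalRing O] [CommRing A'] [Algebra O A']
    [Module.Finite O A'] (M : Ideal A') [M.IsMaximal] :
    M.comap (algebraMap O A') = maximalIdeal O :=
  haveI : Algebra.IsIntegral O A' := Algebra.IsIntegral.of_finite O A'
  eq_maximalIdeal (Ideal.isMaximal_comap_of_isIntegral_of_isMaximal M)

/-- The powers of the maximal ideals of a finite injective algebra cut out the adic topology. -/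
theorem exists_pow_separating (O A' : Type u) [CommRing O] [IsLocalRing O] [IsNoetherianRing O]
    [CommRing A'] [Algebra O A'] [Module.Finite O A'] (hinj : Function.Injective (algebraMap O A')) :
    Finite (MaximalSpectrum A') ∧ ∀ N : ℕ, ∃ k : ℕ, ∀ o : O,
      (∀ M : MaximalSpectrum A', algebraMap O A' o ∈ M.asIdeal ^ k) → o ∈ maximalIdeal O ^ N := by
  classical
  haveI : IsNoetherianRing A' := IsNoetherianRing.of_finite O A'
  haveI : Algebra.IsIntegral O A' := Algebra.IsIntegral.of_finite O A'
  let I : Ideal A' := (maximalIdeal O).map (algebraMap O A')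
  have hmax : ∀ P : Ideal A', P.IsPrime → I ≤ P → P.IsMaximal := fun P hP hle => by
    refine Ideal.isMaximal_of_isIntegral_of_isMaximal_comap (R := O) P ?_
    rw [((maximalIdeal.isMaximal O).eq_of_le (Ideal.IsPrime.comap _).ne_top
      (Ideal.map_le_iff_le_comap.mp hle)).symm]
    infer_instance
  have hfin : Finite (MaximalSpectrum A') := by
    haveI : Finite I.minimalPrimes := (Ideal.finite_minimalPrimes_of_isNoetherianRing A' I).to_subtype
    refine Finite.of_injective (β := I.minimalPrimes) (fun M => ⟨M.asIdeal, ?_⟩)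
      fun M M' h => MaximalSpectrum.ext (congrArg Subtype.val h)
    refine ⟨⟨M.isMaximal.isPrime, Ideal.map_le_iff_le_comap.mpr (comap_maximal_eq M.asIdeal).ge⟩,
      fun P hP hle => ?_⟩
    exact ((hmax P hP.1 hP.2).eq_of_le M.isMaximal.ne_top hle).ge
  refine ⟨hfin, fun N => ?_⟩
  haveI := Fintype.ofFinite (MaximalSpectrum A')
  let J : Ideal A' := ∏ M : MaximalSpectrum A', M.asIdeal
  have hJ : J ≤ I.radical := by
    rw [Ideal.radical_eq_sInf]
    refine le_sInf fun P hP => ?_
    exact Ideal.prod_le_inf.trans (Finset.inf_le (Finset.mem_univ (⟨P, hmax P hP.2 hP.1⟩ : MaximalSpectrum A')))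
  obtain ⟨e, he⟩ := Ideal.exists_pow_le_of_le_radical_of_fg hJ (IsNoetherian.noetherian J)
  let R : Submodule O A' := LinearMap.range (Algebra.linearMap O A')
  obtain ⟨k₀, hk₀⟩ := Ideal.exists_pow_inf_eq_pow_smul (maximalIdeal O) R
  refine ⟨e * (N + k₀), fun o ho => ?_⟩
  have h1 : algebraMap O A' o ∈ J ^ (e * (N + k₀)) := by
    rw [← Finset.prod_pow, Ideal.prod_eq_iInf_of_pairwise_isCoprime (fun M _ M' _ hMM' => ?_)]
    · simpa [Ideal.mem_iInf] using ho
    · exact (Ideal.isCoprime_of_isMaximal fun h => hMM' (MaximalSpectrum.ext h)).pow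
  have h2 : algebraMap O A' o ∈ (maximalIdeal O ^ (N + k₀) • ⊤ : Submodule O A') ⊓ R := by
    refine ⟨?_, ⟨o, rfl⟩⟩
    rw [Ideal.smul_top_eq_map]
    show algebraMap O A' o ∈ (maximalIdeal O ^ (N + k₀)).map (algebraMap O A')
    rw [Ideal.map_pow]
    rw [pow_mul] at h1
    exact Ideal.pow_right_mono he _ h1
  rw [hk₀ (N + k₀) (Nat.le_add_left k₀ N), Nat.add_sub_cancel] at h2
  have h3 : algebraMap O A' o ∈ maximalIdeal O ^ N • R :=
    Submodule.smul_mono le_rfl inf_le_right h2
  rw [show R = Submodule.map (Algebra.linearMap O A') ⊤ from (Submodule.map_top _).symm,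
    ← Submodule.map_smul''] at h3
  obtain ⟨o', ho', hoo'⟩ := h3
  rw [← hinj hoo']
  simpa using ho'

theorem comap_maximalIdeal_pow {A : Type u} [CommRing A] (M : Ideal A) [M.IsMaximal] (k : ℕ) :
    (maximalIdeal (Localization.AtPrime M) ^ k).comap (algebraMap A (Localization.AtPrime M)) = M ^ k := by
  rcases Nat.eq_zero_or_pos k with rfl | hk
  · simp
  rw [← IsLocalization.AtPrime.map_eq_maximalIdeal M (Localization.AtPrime M), ← Ideal.map_pow]
  refine IsLocalization.under_map_of_isPrimary_disjoint M.primeCompl _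
    (Ideal.isPrimary_of_isMaximal_radical (by rw [Ideal.radical_pow M hk.ne', ‹M.IsMaximal›.isPrime.radical]; infer_instance)) ?_
  exact Set.disjoint_left.mpr fun a ha ha' => ha (Ideal.pow_le_self hk.ne' ha')

/-- Flatness over the points of a further base change, from flatness below. -/
theorem flat_of_flat_comp {X Y T T' : Scheme.{u}} (f : X ⟶ Y) (F : X.Modules) [F.IsQuasicoherent]
    (g : T ⟶ Y) (w : T' ⟶ T) (gc : T' ⟶ Y) (hgc : gc = w ≫ g) (z : ↥(pullback f gc))
    (hflat : ∀ x' : ↥(pullback f g), pullback.fst f g x' = pullback.fst f gc z →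
      pullback.snd f g x' = w (pullback.snd f gc z) →
      FlatMod.IsFlatOverAt (pullback.snd f g) ((Scheme.Modules.pullback (pullback.fst f g)).obj F) x') :
    FlatMod.IsFlatOverAt (pullback.snd f gc) ((Scheme.Modules.pullback (pullback.fst f gc)).obj F) z := by
  let b : pullback f gc ⟶ pullback f g :=
    pullback.lift (pullback.fst f gc) (pullback.snd f gc ≫ w) (by
      rw [pullback.condition, hgc, Category.assoc])
  have hb1 : b ≫ pullback.fst f g = pullback.fst f gc := pullback.lift_fst ..
  have hsq : IsPullback b (pullback.snd f gc) (pullback.snd f g) w := by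
    refine IsPullback.of_right ?_ (pullback.lift_snd ..) (IsPullback.of_hasPullback f g)
    rw [hb1, ← hgc]
    exact IsPullback.of_hasPullback f gc
  have e1 : pullback.fst f g (b z) = pullback.fst f gc z := by rw [← Scheme.Hom.comp_apply, hb1]
  have e2 : pullback.snd f g (b z) = w (pullback.snd f gc z) := by
    rw [← Scheme.Hom.comp_apply, pullback.lift_snd, Scheme.Hom.comp_apply]
  haveI := FittSheaf.isQuasicoherent_pullback (pullback.fst f g) F
  have h1 := FlatFP.isFlatOverAt_baseChange (pullback.snd f g) (pullback.snd f gc) b w hsq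
    ((Scheme.Modules.pullback (pullback.fst f g)).obj F) z (hflat (b z) e1 e2)
  exact (FlatFP.isFlatOverAt_congr _ ((Scheme.Modules.pullbackComp b (pullback.fst f g)).app F ≪≫
    (Scheme.Modules.pullbackCongr hb1).app F) z).mp h1

/-- Flatness at a point from flatness over the closed points of a finite injective algebra over the
local ring. -/
theorem flat_of_forall_closedPoints {X Y : Scheme.{u}} [IsLocallyNoetherian Y] (f : X ⟶ Y)
    [LocallyOfFiniteType f] (F : X.Modules) (hF : Coh.IsCoh F) (x : X) (A' : Type u) [CommRing A']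
    [Algebra (Y.presheaf.stalk (f x)) A'] [Module.Finite (Y.presheaf.stalk (f x)) A']
    (hinj : Function.Injective (algebraMap (Y.presheaf.stalk (f x)) A'))
    (g : Spec (CommRingCat.of A') ⟶ Y)
    (hg : g = Spec.map (CommRingCat.ofHom (algebraMap (Y.presheaf.stalk (f x)) A')) ≫ Y.fromSpecStalk (f x))
    (h : ∀ x' : ↥(pullback f g), pullback.fst f g x' = x →
      IsClosed ({pullback.snd f g x'} : Set ↥(Spec (CommRingCat.of A'))) →
      FlatMod.IsFlatOverAt (pullback.snd f g) ((Scheme.Modules.pullback (pullback.fst f g)).obj F) x') :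
    FlatMod.IsFlatOverAt f F x := by
  classical
  haveI := hF.1
  let O := Y.presheaf.stalk (f x)
  obtain ⟨hfinM, hsep⟩ := exists_pow_separating O A' hinj
  haveI := Fintype.ofFinite (MaximalSpectrum A')
  let ψ : ∀ M : MaximalSpectrum A', (Y.presheaf.stalk (f x) : Type u) →+* Localization.AtPrime M.asIdeal := fun M =>
    (algebraMap A' (Localization.AtPrime M.asIdeal)).comp (algebraMap O A')
  have hψ : ∀ (M : MaximalSpectrum A') (k : ℕ),
      (maximalIdeal (Localization.AtPrime M.asIdeal) ^ k).comap (ψ M) = (M.asIdeal ^ k).comap (algebraMap O A') := fun M k => by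
    rw [← Ideal.comap_comap, comap_maximalIdeal_pow]
  haveI hloc : ∀ M, IsLocalHom (ψ M) := fun M => ⟨fun a ha => by
    by_contra hu
    have ha' : a ∈ (maximalIdeal (Localization.AtPrime M.asIdeal) ^ 1).comap (ψ M) := by
      rw [hψ, pow_one, comap_maximal_eq (O := O) M.asIdeal]
      exact (mem_maximalIdeal a).mpr hu
    rw [pow_one, Ideal.mem_comap, mem_maximalIdeal] at ha'
    exact ha' ha⟩
  refine isFlatOverAt_of_forall_quot f F hF x fun n => ?_
  obtain ⟨k, hk⟩ := hsep (n + 1)
  let s : Finset (MaximalSpectrum A' × ℕ) := Finset.univ.image fun M => (M, k)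
  have hs : (⨅ p ∈ s, Ideal.comap (ψ p.1) (maximalIdeal (Localization.AtPrime p.1.asIdeal) ^ p.2)) ≤
      maximalIdeal O ^ (n + 1) := fun o ho => hk o fun M => by
    have hmem : (M, k) ∈ s := Finset.mem_image_of_mem _ (Finset.mem_univ M)
    simp only [Ideal.mem_iInf] at ho
    have := ho (M, k) hmem
    dsimp only at this
    rw [hψ] at this
    exact this
  refine ⟨_, hs, fun x' hx' => flat_quot_of_family f F hF x
    (fun M : MaximalSpectrum A' => Localization.AtPrime M.asIdeal) ψ s _ rfl
    (hs.trans (Ideal.pow_le_self n.succ_ne_zero)) (fun M z hz hsnd => ?_) x' hx'⟩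
  let w : Spec (CommRingCat.of (Localization.AtPrime M.asIdeal)) ⟶ Spec (CommRingCat.of A') :=
    Spec.map (CommRingCat.ofHom (algebraMap A' (Localization.AtPrime M.asIdeal)))
  refine flat_of_flat_comp f F g w _ ?_ z fun z' hz1 hz2 => h z' (hz1.trans hz) ?_
  · rw [hg, ← Category.assoc, ← Spec.map_comp]
    rfl
  · rw [hz2, hsnd]
    have hw : w (closedPoint (Localization.AtPrime M.asIdeal)) =
        (⟨M.asIdeal, M.isMaximal.isPrime⟩ : PrimeSpectrum A') :=
      PrimeSpectrum.ext (by
        show (maximalIdeal (Localization.AtPrime M.asIdeal)).comap (algebraMap A' _) = _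
        rw [← pow_one (maximalIdeal _), comap_maximalIdeal_pow, pow_one])
    rw [hw]
    exact (PrimeSpectrum.isClosed_singleton_iff_isMaximal _).mpr M.isMaximal

end GrothLib.ArtRed3
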