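import Groth.Agent.Lib.ArtRed3.Algebra
import Groth.Agent.Lib.FlatFP.BaseChangeAt
import Groth.Agent.Lib.FlatFP.InjCokerSheaf
import Groth.Agent.Lib.FlatFam5.Geometric
import Groth.Agent.Lib.AssPts.Points
import Groth.Agent.Lib.ModDesc.Approx
import Groth.Agent.Lib.QCoh.FT
import Groth.Prelude.Def_FlatMod2
import Mathlib.RingTheory.HopkinsLevitzki

/-!
# Reduction of flatness at a point to Artinian quotients of the local ring of the base
-/

set_option autoImplicit false
set_option backward.isDefEq.respectTransparency false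
set_option linter.style.haveILetI false

universe u

open CategoryTheory CategoryTheory.Limits AlgebraicGeometry TensorProduct IsLocalRing

namespace GrothLib.ArtRed3

variable {X Y : Scheme.{u}}

/-- The map from the spectrum of a quotient of the local ring at `y`. -/
noncomputable abbrev quotMap (y : Y) (K : Ideal (Y.presheaf.stalk y)) :
    Spec (CommRingCat.of (Y.presheaf.stalk y ⧸ K)) ⟶ Y :=
  Spec.map (CommRingCat.ofHom (Ideal.Quotient.mk K)) ≫ Y.fromSpecStalk y

/-- The map on sections of `Spec R ⟶ Spec O_y ⟶ Y`. -/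
theorem quotMap_appLE (y : Y) {R : CommRingCat.{u}} (q : Y.presheaf.stalk y ⟶ R) (V : Y.Opens) (hy : y ∈ V)
    (eW : (⊤ : (Spec R).Opens) ≤ (Spec.map q ≫ Y.fromSpecStalk y) ⁻¹ᵁ V) :
    (Spec.map q ≫ Y.fromSpecStalk y).appLE V ⊤ eW =
      Y.presheaf.germ V y hy ≫ q ≫ (Scheme.ΓSpecIso R).inv := by
  have e1 : (⊤ : (Spec (Y.presheaf.stalk y)).Opens) ≤ Y.fromSpecStalk y ⁻¹ᵁ V := fun t _ => by
    have : Y.fromSpecStalk y t ∈ Set.range (Y.fromSpecStalk y) := ⟨_, rfl⟩
    rw [Scheme.range_fromSpecStalk] at this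
    exact this.mem_open V.2 hy
  have e2 : (⊤ : (Spec R).Opens) ≤ Spec.map q ⁻¹ᵁ (⊤ : (Spec (Y.presheaf.stalk y)).Opens) := le_top
  rw [← Scheme.Hom.appLE_comp_appLE _ _ V ⊤ ⊤ e1 e2, Scheme.Hom.appLE, Scheme.fromSpecStalk_app hy]
  simp only [Category.assoc]
  congr 1
  rw [← Functor.map_comp_assoc]
  have hid : ((homOfLE (le_top : Y.fromSpecStalk y ⁻¹ᵁ V ≤ ⊤)).op ≫ (homOfLE e1).op) = 𝟙 _ := Subsingleton.elim _ _
  rw [hid, CategoryTheory.Functor.map_id, Category.id_comp, Scheme.ΓSpecIso_inv_naturality]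
  congr 1

/-- **Flatness at a point from flatness over enough Artinian quotients of the local ring of the base.** -/
theorem isFlatOverAt_of_forall_quot [IsLocallyNoetherian Y] (f : X ⟶ Y) [LocallyOfFiniteType f]
    (F : X.Modules) (hF : Coh.IsCoh F) (x : X)
    (h : ∀ n : ℕ, ∃ K : Ideal (Y.presheaf.stalk (f x)),
      K ≤ maximalIdeal (Y.presheaf.stalk (f x)) ^ (n + 1) ∧
      ∀ x' : ↥(pullback f (quotMap (f x) K)), pullback.fst f (quotMap (f x) K) x' = x →
        FlatMod.IsFlatOverAt (pullback.snd f (quotMap (f x) K))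
          ((Scheme.Modules.pullback (pullback.fst f (quotMap (f x) K))).obj F) x') :
    FlatMod.IsFlatOverAt f F x := by
  haveI : IsLocallyNoetherian X := LocallyOfFiniteType.isLocallyNoetherian f
  haveI := hF.1
  obtain ⟨V, hV, hyV, -⟩ :=
    exists_isAffineOpen_mem_and_subset (show f x ∈ (⊤ : Y.Opens) from trivial)
  obtain ⟨U, hU, hxU, eU⟩ := exists_isAffineOpen_mem_and_subset (show x ∈ f ⁻¹ᵁ V from hyV)
  haveI := QCoh.moduleFinite_of_isFiniteType F hF.2 hU
  haveI : IsNoetherianRing Γ(X, U) := IsLocallyNoetherian.component_noetherian ⟨U, hU⟩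
  haveI : IsNoetherianRing Γ(Y, V) := IsLocallyNoetherian.component_noetherian ⟨V, hV⟩
  letI : Algebra Γ(Y, V) Γ(X, U) := (f.appLE V U eU).hom.toAlgebra
  letI : Module Γ(Y, V) Γ(F, U) := Module.compHom _ (algebraMap Γ(Y, V) Γ(X, U))
  haveI : IsScalarTower Γ(Y, V) Γ(X, U) Γ(F, U) := IsScalarTower.of_algebraMap_smul fun _ _ => rfl
  refine (FlatFP.isFlatOverAt_iff f F hV hU eU hxU rfl).mpr ?_
  let O := Y.presheaf.stalk (f x)
  letI : Algebra Γ(Y, V) O := (Y.presheaf.germ V (f x) hyV).hom.toAlgebra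
  haveI : IsLocalization.AtPrime O (WeakAss.primeAt (f x) hyV) :=
    FlatFP.isLocalization_stalk_primeAt hV hyV
  refine flat_of_forall_quot (M := Γ(F, U)) (WeakAss.primeAt (f x) hyV) (WeakAss.primeAt x hxU)
    (AssPts.comap_primeAt f eU hxU) O fun n => ?_
  obtain ⟨K, hK, hflat⟩ := h n
  have hKm : K ≤ maximalIdeal O := hK.trans (Ideal.pow_le_self n.succ_ne_zero)
  haveI : Nontrivial (O ⧸ K) := Ideal.Quotient.nontrivial_iff.2
    (ne_top_of_le_ne_top (maximalIdeal.isMaximal O).ne_top hKm)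
  haveI : IsLocalRing (O ⧸ K) := IsLocalRing.of_surjective' (Ideal.Quotient.mk K) Ideal.Quotient.mk_surjective
  haveI : IsLocalHom (Ideal.Quotient.mk K) := IsLocalHom.of_surjective _ Ideal.Quotient.mk_surjective
  let q : CommRingCat.of O ⟶ CommRingCat.of (O ⧸ K) := CommRingCat.ofHom (Ideal.Quotient.mk K)
  let T := Spec (CommRingCat.of (O ⧸ K))
  let g := quotMap (f x) K
  let W : T.Opens := ⊤
  have eW : W ≤ g ⁻¹ᵁ V := fun t _ => by
    have hspec : g t ⤳ f x := by
      have : g t ∈ Set.range (Y.fromSpecStalk (f x)) := ⟨_, rfl⟩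
      rwa [Scheme.range_fromSpecStalk] at this
    exact hspec.mem_open V.2 hyV
  have hg : g (closedPoint (O ⧸ K)) = f x := by
    show Y.fromSpecStalk (f x) (Spec.map q (closedPoint (O ⧸ K))) = f x
    haveI : IsLocalHom q.hom := by
      show IsLocalHom (Ideal.Quotient.mk K)
      infer_instance
    rw [show Spec.map q (closedPoint (O ⧸ K)) = closedPoint O from Spec_closedPoint]
    exact Scheme.fromSpecStalk_closedPoint
  let A := Γ(T, W)
  letI : Algebra Γ(Y, V) A := (g.appLE V W eW).hom.toAlgebra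
  let e : (O ⧸ K) ≃+* A := (Scheme.ΓSpecIso (CommRingCat.of (O ⧸ K))).commRingCatIsoToRingEquiv.symm
  have he : ∀ r, e (Ideal.Quotient.mk K (algebraMap Γ(Y, V) O r)) = algebraMap Γ(Y, V) A r := by
    intro r
    have h1 : g.appLE V W eW = Y.presheaf.germ V (f x) hyV ≫ q ≫ (Scheme.ΓSpecIso _).inv :=
      quotMap_appLE (f x) q V hyV eW
    exact (ConcreteCategory.congr_hom h1 r).symm
  refine ⟨K, A, inferInstance, inferInstance, e, hK, he, ?_⟩
  obtain ⟨x', hx'1, hx'2⟩ := Scheme.Pullback.exists_preimage_pullback (f := f) (g := g) x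
    (closedPoint (O ⧸ K)) hg.symm
  have hc := IsPullback.of_hasPullback f g
  let P := pullback.fst f g ⁻¹ᵁ U ⊓ pullback.snd f g ⁻¹ᵁ W
  have hW : IsAffineOpen W := isAffineOpen_top T
  have hP : IsAffineOpen P := FlatLimit.isAffineOpen_square hc eW eU hV hW hU
  have hxP : x' ∈ P := ⟨show pullback.fst f g x' ∈ U by rw [hx'1]; exact hxU, trivial⟩
  letI : Algebra Γ(T, W) Γ(pullback f g, P) :=
    ((pullback.snd f g).appLE W P inf_le_right).hom.toAlgebra
  letI : Algebra Γ(X, U) Γ(pullback f g, P) :=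
    ((pullback.fst f g).appLE U P inf_le_left).hom.toAlgebra
  letI : Algebra Γ(Y, V) Γ(pullback f g, P) :=
    ((algebraMap Γ(X, U) Γ(pullback f g, P)).comp (algebraMap Γ(Y, V) Γ(X, U))).toAlgebra
  haveI : IsScalarTower Γ(Y, V) Γ(X, U) Γ(pullback f g, P) := IsScalarTower.of_algebraMap_eq' rfl
  haveI : IsScalarTower Γ(Y, V) Γ(T, W) Γ(pullback f g, P) := IsScalarTower.of_algebraMap_eq' (by
    show ((pullback.fst f g).appLE U P _).hom.comp (f.appLE V U _).hom =
      ((pullback.snd f g).appLE W P _).hom.comp (g.appLE V W _).hom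
    rw [← CommRingCat.hom_comp, ← CommRingCat.hom_comp, Scheme.Hom.appLE_comp_appLE,
      Scheme.Hom.appLE_comp_appLE]
    simp only [hc.w])
  haveI : Algebra.IsPushout Γ(Y, V) Γ(T, W) Γ(X, U) Γ(pullback f g, P) :=
    FlatLimit.isPushout_square hc eW eU hV hW hU rfl rfl rfl rfl
  haveI : SMulCommClass Γ(X, U) Γ(T, W) Γ(pullback f g, P) :=
    ⟨fun a b z => by rw [Algebra.smul_def, Algebra.smul_def, Algebra.smul_def, Algebra.smul_def, mul_left_comm]⟩
  refine flat_tensor_of_flat_localized (A := A) (B' := Γ(pullback f g, P)) ?_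
    (WeakAss.primeAt x hxU) (WeakAss.primeAt x' hxP) ?_
    ((FlatFP.isFlatOverAt_pullback_iff (pullback.snd f g) (pullback.fst f g) F hU hW hP
      inf_le_left inf_le_right hxP rfl rfl).mp (hflat x' hx'1))
  · intro a
    obtain ⟨o, ho⟩ := Ideal.Quotient.mk_surjective (e.symm a)
    obtain ⟨r, s, rfl⟩ := IsLocalization.exists_mk'_eq (WeakAss.primeAt (f x) hyV).primeCompl o
    refine ⟨r, s.1, ?_, ?_⟩
    · rw [← he]
      exact ((IsLocalization.map_units O s).map _).map e
    · rw [← e.apply_symm_apply a, ← ho, ← he, ← he, ← map_mul, ← map_mul,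
        IsLocalization.mk'_spec' O r s]
  · calc (WeakAss.primeAt x' hxP).comap (algebraMap Γ(X, U) Γ(pullback f g, P))
        = WeakAss.primeAt (pullback.fst f g x') hxP.1 :=
          AssPts.comap_primeAt (pullback.fst f g) (inf_le_left : P ≤ _) hxP
      _ = WeakAss.primeAt x hxU := by simp only [hx'1]

/-- Flatness at the points over `x` and `t` passes to a further base change, written as an iterated
one. -/
theorem flat_stage (f : X ⟶ Y) (F : X.Modules) [F.IsQuasicoherent] (x : X) {S T T' : Scheme.{u}}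
    (j : S ⟶ Y) (g : T ⟶ Y) (v : T' ⟶ S) (w : T' ⟶ T) (hvw : v ≫ j = w ≫ g) (t' : T')
    (hflat : ∀ x' : ↥(pullback f g), pullback.fst f g x' = x → pullback.snd f g x' = w t' →
      FlatMod.IsFlatOverAt (pullback.snd f g) ((Scheme.Modules.pullback (pullback.fst f g)).obj F) x')
    (xS : ↥(pullback f j)) (hxS : pullback.fst f j xS = x)
    (z : ↥(pullback (pullback.snd f j) v)) (hz1 : pullback.fst (pullback.snd f j) v z = xS)
    (hz2 : pullback.snd (pullback.snd f j) v z = t') :
    FlatMod.IsFlatOverAt (pullback.snd (pullback.snd f j) v)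
      ((Scheme.Modules.pullback (pullback.fst (pullback.snd f j) v)).obj
        ((Scheme.Modules.pullback (pullback.fst f j)).obj F)) z := by
  let p₁ := pullback.fst (pullback.snd f j) v
  let p₂ := pullback.snd (pullback.snd f j) v
  have hbig : IsPullback (p₁ ≫ pullback.fst f j) p₂ f (w ≫ g) := by
    rw [← hvw]
    exact (IsPullback.of_hasPullback (pullback.snd f j) v).paste_horiz (IsPullback.of_hasPullback f j)
  let b : pullback (pullback.snd f j) v ⟶ pullback f g :=
    pullback.lift (p₁ ≫ pullback.fst f j) (p₂ ≫ w) (hbig.w.trans (Category.assoc _ _ _).symm)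
  have hb1 : b ≫ pullback.fst f g = p₁ ≫ pullback.fst f j := pullback.lift_fst ..
  have hsq : IsPullback b p₂ (pullback.snd f g) w :=
    IsPullback.of_right (by rw [hb1]; exact hbig) (pullback.lift_snd ..) (IsPullback.of_hasPullback f g)
  have e1 : pullback.fst f g (b z) = x := by
    rw [← Scheme.Hom.comp_apply, hb1, Scheme.Hom.comp_apply, hz1, hxS]
  have e2 : pullback.snd f g (b z) = w t' := by
    rw [← Scheme.Hom.comp_apply, pullback.lift_snd, Scheme.Hom.comp_apply, hz2]
  haveI := FittSheaf.isQuasicoherent_pullback (pullback.fst f g) F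
  have h1 := FlatFP.isFlatOverAt_baseChange (pullback.snd f g) p₂ b w hsq
    ((Scheme.Modules.pullback (pullback.fst f g)).obj F) z (hflat (b z) e1 e2)
  refine (FlatFP.isFlatOverAt_congr p₂ ?_ z).mp h1
  exact (Scheme.Modules.pullbackComp b (pullback.fst f g)).app F ≪≫
    (Scheme.Modules.pullbackCongr hb1).app F ≪≫
      ((Scheme.Modules.pullbackComp p₁ (pullback.fst f j)).app F).symm

end GrothLib.ArtRed3
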